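import Cfsg.Agent.T2.Un
import Cfsg.Agent.T2.U5a
import Cfsg.Agent.T2.U5b

/-! Generators of `SU₅(2)`. -/

set_option autoImplicit false
set_option linter.unusedSimpArgs false

namespace Cfsg.Agent.T2

open Cfsg Cfsg.Agent.TT Subgroup Cfsg.Agent.Cl Cfsg.Agent.Cl.Uni Cfsg.Agent.Fi.U Cfsg.Agent.FT

section
variable {G : Type*} [Group G] {D : Set G} {v : ℕ → G}

/-- the commuting pattern of five generators of `2 × SU₅(2)` -/
structure P5 (D : Set G) (v : ℕ → G) : Prop where
  mem : ∀ i < 5, v i ∈ D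
  n01 : ¬ Commute (v 0) (v 1)
  n02 : ¬ Commute (v 0) (v 2)
  c03 : Commute (v 0) (v 3)
  c04 : Commute (v 0) (v 4)
  n12 : ¬ Commute (v 1) (v 2)
  n13 : ¬ Commute (v 1) (v 3)
  c14 : Commute (v 1) (v 4)
  n23 : ¬ Commute (v 2) (v 3)
  c24 : Commute (v 2) (v 4)
  n34 : ¬ Commute (v 3) (v 4)
  r1 : ¬ Commute (v 0) (v 2 * v 1 * v 2)
  r2 : ¬ Commute (v 1) (v 3 * v 2 * v 3)
  r3 : ¬ Commute (v 0) (v 1 * (v 3 * v 2 * v 3) * v 1)

theorem P5.rel (P : P5 D v) (H : T3 D) : ∀ l ∈ TC.U5b.base, (∀ i ∈ l, i < 5) ∧ TC.evl v l = 1 := by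
  have m0 := P.mem 0 (by norm_num)
  have m1 := P.mem 1 (by norm_num)
  have m2 := P.mem 2 (by norm_num)
  have m3 := P.mem 3 (by norm_num)
  have m4 := P.mem 4 (by norm_num)
  have c : ∀ {x y : G}, x ∈ D → y ∈ D → Commute x y → y * (x * (y * x)) = 1 := fun hx hy h => by
    simpa [pow_succ, mul_assoc] using sq_of_commute (H.sq hy) (H.sq hx) h.symm
  have n : ∀ {x y : G}, x ∈ D → y ∈ D → ¬ Commute x y → y * (x * (y * (x * (y * x)))) = 1 :=
    fun hx hy h => by simpa [pow_succ, mul_assoc] using H.ts.cube hy hx fun e => h e.symm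
  have q1 := H.ts.cube m0 (H.star m2 m1) P.r1
  have q2 := H.ts.cube m1 (H.star m3 m2) P.r2
  have q3 := H.ts.cube m0 (H.star m1 (H.star m3 m2)) P.r3
  simp only [pow_succ, pow_zero, one_mul, mul_assoc] at q1 q2 q3
  simp only [TC.U5b.base, List.forall_mem_cons, TC.evl, one_mul, mul_assoc, q1, q2, q3, n m0 m1 P.n01,
    n m0 m2 P.n02, c m0 m3 P.c03, c m0 m4 P.c04, n m1 m2 P.n12, n m1 m3 P.n13, c m1 m4 P.c14,
    n m2 m3 P.n23, c m2 m4 P.c24, n m3 m4 P.n34]
  simp

theorem P5.card_le [Finite G] (P : P5 D v) (H : T3 D) :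
    Nat.card (closure (v '' {i | i < 5})) ≤ 27371520 := by
  have m0 := P.mem 0 (by norm_num)
  have m1 := P.mem 1 (by norm_num)
  have m2 := P.mem 2 (by norm_num)
  have h3 : Pl D (v 0) (v 1) (v 2) := ⟨m0, m1, m2, P.n01, P.n02, P.n12, fun h => P.r1 (by
    rw [H.br m0 m1 P.n01, ← comm_star (H.sq m1), H.br m1 m2 P.n12] at h
    exact h.symm)⟩
  have h4 := (TC.U5a.cert.card_le v (closure {v 0, v 1, v 2})
    (fun i hi => ⟨hi, H.sq (P.mem i (by omega))⟩)
    (fun l hl => ⟨(by decide : ∀ l ∈ TC.U5a.base, ∀ i ∈ l, i < 4) l hl,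
      (P.rel H l ((by decide : ∀ l ∈ TC.U5a.base, l ∈ TC.U5b.base) l hl)).2⟩)
    fun i hi h => subset_closure (by
      have : i = 0 ∨ i = 1 ∨ i = 2 := by revert i; decide
      rcases this with rfl | rfl | rfl <;> simp)).2
  have h5 := (TC.U5b.cert.card_le v (closure (v '' {i | i < 4}))
    (fun i hi => ⟨hi, H.sq (P.mem i hi)⟩) (P.rel H)
    fun i hi h => subset_closure ⟨i, (by decide : ∀ i < 5, Nat.testBit 15 i = true → i < 4) i hi h, rfl⟩).2
  have := h3.card_le H
  omega

end

def g5 : ℕ → Fin 5 → FF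
  | 0 => ![1, 1, 0, 0, 0]
  | 1 => ![1, om, 0, 0, 0]
  | 2 => ![0, 1, 1, 0, 0]
  | 3 => ![1, 1, 0, 1, 1]
  | _ => ![0, 0, 0, 1, om]

def hh (x y : Fin 5 → FF) : FF :=
  x 0 * star (y 0) + x 1 * star (y 1) + x 2 * star (y 2) + x 3 * star (y 3) + x 4 * star (y 4)

theorem hh_eq (x y : Fin 5 → FF) : stdH FF 5 x y = hh x y := by
  rw [stdH_apply, Fin.sum_univ_five, hh]

def ac : List ℕ → (Fin 5 → FF) → Fin 5 → FF
  | [], x => x
  | i :: w, x => ac w (x + hh x (g5 i) • g5 i)

theorem g5_iso (i : ℕ) : stdH FF 5 (g5 i) (g5 i) = 0 ∧ g5 i ≠ 0 := by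
  rw [hh_eq]
  match i with
  | 0 | 1 | 2 | 3 => decide +kernel
  | _ + 4 => exact (by decide +kernel : hh (g5 4) (g5 4) = 0 ∧ g5 4 ≠ 0)

def cd4 (a : FF) : ℕ := a.re.val + 2 * a.im.val

def tb5 (x : Fin 5 → FF) : ℕ :=
  (0x3200000024000000123113030000000033000000140000000433142300000000320000000300000014332214003024240024253200243115000000004d000000090000003900000019283a290000000038000000090000002a39281a0000000039000000390000001b2a381a00372b18002a37090009182b00000000400000004500000043000000444544430000000043000000430000004544424400000000450000004400000045444445004645420045414500434546000000003c183418003527080009271600000000292636080035190800271716000000002819362700361827000808170000000027000000080000001700000036170836000000004500000045000000444544440000000044000000450000004343454400000000450000004300000043444442004643450042464500454541000000003c0000001400000032000000031433220000000012000000320000002403311300000000040000003300000014233314001524310024302400322425000000004d0000001b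00000039000000391a2a380000000019000000090000003929283a000000002a00000038000000091a3928002b09180018372b00092a37000000004017080800271936002736180000000027160927001818340008352700000000291627170008263600083519000000002800000036000000080000001736170800000000090000002a00000038281a3900000000390000001b00000039381a2a000000003900000019000000093a29280037092a00182b09002b183700000000400000004300000045000000434244440000000044000000450000004544454400000000430000004400000045444345004145450045464300454246000000003c0000001400000004000000331423330000000003000000140000003222143300000000240000001200000032130331002532240031152400242430000000004d1908350017162700360826000000002818273600081708003627190000000027270835002716090034181800000000290000001700000036000000080836170019083600171727003508260000000028182836000917080036272900000000272608350027160800341718000000002900000017000000360000000808361700183417003526080008271600000000292635080036190800271717000000002829362700361828000809170000000027000000080000001700000036170836001708090027293600283618000000002716082700171834000835260000000029172717000826350008361900000000280000003600000008000000173617080000000020000000020000001221212200000000120000002000000002222121000000000200000012000000202122210000101100110010001011000000000000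 >>> (8 * (cd4 (x 0) + 4 * cd4 (x 1) + 16 * cd4 (x 2) + 64 * cd4 (x 3) + 256 * cd4 (x 4)))) % 256

theorem tb5_ok : ∀ a b c d e : FF, (fun x : Fin 5 → FF => hh x x = 0 → x = 0 ∨ tb5 x / 16 < 5 ∧
    ((∃ k : FF, x = k • g5 (tb5 x / 16)) ∨ tb5 (ac [tb5 x / 16] x) % 16 < tb5 x % 16)) ![a, b, c, d, e] := by
  decide +kernel

theorem closure_g5 : closure ((fun i => tv (stdH FF 5) (g5 i)) '' {i | i < 5}) ⊔ ⊥ =
    closure (TV (stdH FF 5)) := by
  rw [sup_bot_eq]
  refine le_antisymm (closure_mono ?_) ((closure_le _).2 ?_)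
  · rintro _ ⟨i, -, rfl⟩; exact ⟨_, (g5_iso i).1, (g5_iso i).2, rfl⟩
  rintro _ ⟨x, hx, x0, rfl⟩
  induction hn : tb5 x % 16 using Nat.strong_induction_on generalizing x with
  | _ n ih =>
    have := tb5_ok (x 0) (x 1) (x 2) (x 3) (x 4)
    rw [show ![x 0, x 1, x 2, x 3, x 4] = x from funext fun i => by fin_cases i <;> rfl] at this
    obtain ⟨hi, ⟨k, hk⟩ | h⟩ := (this (hh_eq x x ▸ hx)).resolve_left x0
    · rw [(tv_eq_iff (nondeg_stdH 5) hx (g5_iso _).1 x0).2 ⟨k, hk⟩]
      exact subset_closure ⟨_, hi, rfl⟩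
    · have hg := (g5_iso (tb5 x / 16)).1
      have m : tv _ (g5 (tb5 x / 16)) ∈ closure ((fun i => tv (stdH FF 5) (g5 i)) '' {i | i < 5}) :=
        subset_closure ⟨_, hi, rfl⟩
      have := ih _ (hn ▸ h) (ac [tb5 x / 16] x) (by rw [ac, ac, ← hh_eq]; exact ff4.iso_star hg hx)
        (by rw [ac, ac, ← hh_eq, ← ff4.tv_apply hg]; exact UG.apply_ne_zero _ x0) rfl
      rw [ac, ac, ← hh_eq, ← ff4.tv_star hg hx] at this
      have e := mul_mem (mul_mem m this) m
      simpa [mul_assoc, sq_cancel (ff4.tv_sq hg), ff4.tv_sq hg] using e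

section
variable {G : Type*} [Group G] {D : Set G} {L : G → (Fin 5 → FF) → Prop} {v : ℕ → G}

/-- the conjugate of a generator along a word -/
def cw (v : ℕ → G) : List ℕ → G → G
  | [], x => x
  | i :: w, x => cw v w (v i * x * v i)

theorem ULab.cw (U : ULab (stdH FF 5) D L) (hv : ∀ i, L (v i) (g5 i)) :
    ∀ (w : List ℕ) {d : G} {x : Fin 5 → FF}, L d x → L (cw v w d) (ac w x)
  | [], _, _, h => h
  | i :: w, _, _, h => by
    rw [ac, ← hh_eq]
    exact ULab.cw U hv w (U.st h (hv i))

theorem cw_mem {K : Subgroup G} : ∀ (w : List ℕ) {d : G}, (∀ i ∈ w, v i ∈ K) → d ∈ K → cw v w d ∈ K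
  | [], _, _, h => h
  | i :: w, _, hw, h => cw_mem w (fun j hj => hw j (List.mem_cons_of_mem _ hj))
      (mul_mem (mul_mem (hw i List.mem_cons_self) h) (hw i List.mem_cons_self))

theorem ULab.p5 (U : ULab (stdH FF 5) D L) (hv : ∀ i, L (v i) (g5 i)) : P5 D v := by
  have k : ∀ i j w, Commute (v i) (T2.cw v w (v j)) ↔ hh (g5 i) (ac w (g5 j)) = 0 := fun i j w => by
    rw [U.cm (hv i) (U.cw hv w (hv j)), hh_eq]
  refine ⟨fun i _ => U.mem (hv i), (k 0 1 []).not.2 ?_, (k 0 2 []).not.2 ?_, (k 0 3 []).2 ?_,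
    (k 0 4 []).2 ?_, (k 1 2 []).not.2 ?_, (k 1 3 []).not.2 ?_, (k 1 4 []).2 ?_, (k 2 3 []).not.2 ?_,
    (k 2 4 []).2 ?_, (k 3 4 []).not.2 ?_, (k 0 1 [2]).not.2 ?_, (k 1 2 [3]).not.2 ?_,
    (k 0 2 [3, 1]).not.2 ?_⟩ <;> decide +kernel

end

def t5 (v x : Fin 5 → FF) : Fin 5 → FF := x + hh x v • v

theorem five_ok : ∀ a b c d e : FF, (fun x : Fin 5 → FF => t5 (g5 1) (t5 ![0, 0, om, 0, 1]
    (t5 ![om, om + 1, om, 0, 1] (t5 ![1, om, om, 0, 1] (t5 ![om + 1, 1, om, 0, 1] x)))) = x)
    ![a, b, c, d, e] := by decide +kernel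

theorem five_one : tv (stdH FF 5) (g5 1) * tv _ ![0, 0, om, 0, 1] * tv _ ![om, om + 1, om, 0, 1] *
    tv _ ![1, om, om, 0, 1] * tv _ ![om + 1, 1, om, 0, 1] = 1 := by
  have k : ∀ v x : Fin 5 → FF, hh v v = 0 → (tv (stdH FF 5) v).1.1 x = t5 v x := fun v x hv => by
    rw [ff4.tv_apply (hh_eq v v ▸ hv), hh_eq, t5]
  refine eg_ext fun x => ?_
  have := five_ok (x 0) (x 1) (x 2) (x 3) (x 4)
  rw [show ![x 0, x 1, x 2, x 3, x 4] = x from funext fun i => by fin_cases i <;> rfl] at this
  rw [eg_mul, eg_mul, eg_mul, eg_mul, k _ _ (by decide +kernel), k _ _ (by decide +kernel),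
    k _ _ (by decide +kernel), k _ _ (by decide +kernel), k _ _ (by decide +kernel)]
  exact this

end Cfsg.Agent.T2
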