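import Cfsg.Agent.T2.U5
import Cfsg.Agent.T2.U4a
import Cfsg.Agent.T2.Ud

/-! The case `SU₄(2)`. -/

set_option autoImplicit false
set_option linter.unusedSimpArgs false

namespace Cfsg.Agent.T2

open Cfsg Cfsg.Agent.TT Subgroup Cfsg.Agent.Cl Cfsg.Agent.Cl.Uni Cfsg.Agent.Fi.U Cfsg.Agent.FT

section
variable {G : Type*} [Group G] {D : Set G} {v : ℕ → G}

/-- the commuting pattern of five generators of `2 × SU₄(2)` -/
structure P4 (D : Set G) (v : ℕ → G) : Prop where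
  mem : ∀ i < 5, v i ∈ D
  n01 : ¬ Commute (v 0) (v 1)
  n02 : ¬ Commute (v 0) (v 2)
  c03 : Commute (v 0) (v 3)
  c04 : Commute (v 0) (v 4)
  n12 : ¬ Commute (v 1) (v 2)
  n13 : ¬ Commute (v 1) (v 3)
  c14 : Commute (v 1) (v 4)
  c23 : Commute (v 2) (v 3)
  n24 : ¬ Commute (v 2) (v 4)
  c34 : Commute (v 3) (v 4)
  r1 : ¬ Commute (v 0) (v 2 * v 1 * v 2)

theorem P4.card_le [Finite G] (P : P4 D v) (H : T3 D) : Nat.card (closure (v '' {i | i < 5})) ≤ 51840 := by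
  have m0 := P.mem 0 (by norm_num)
  have m1 := P.mem 1 (by norm_num)
  have m2 := P.mem 2 (by norm_num)
  have m3 := P.mem 3 (by norm_num)
  have m4 := P.mem 4 (by norm_num)
  have c : ∀ {x y : G}, x ∈ D → y ∈ D → Commute x y → y * (x * (y * x)) = 1 := fun hx hy h => by
    simpa [pow_succ, mul_assoc] using sq_of_commute (H.sq hy) (H.sq hx) h.symm
  have n : ∀ {x y : G}, x ∈ D → y ∈ D → ¬ Commute x y → y * (x * (y * (x * (y * x)))) = 1 :=
    fun hx hy h => by simpa [pow_succ, mul_assoc] using H.ts.cube hy hx fun e => h e.symm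
  have q1 := H.ts.cube m0 (H.star m2 m1) P.r1
  simp only [pow_succ, pow_zero, one_mul, mul_assoc] at q1
  have h3 : Pl D (v 0) (v 1) (v 2) := ⟨m0, m1, m2, P.n01, P.n02, P.n12, fun h => P.r1 (by
    rw [H.br m0 m1 P.n01, ← comm_star (H.sq m1), H.br m1 m2 P.n12] at h
    exact h.symm)⟩
  have h4 := (TC.U4a.cert.card_le v (closure {v 0, v 1, v 2})
    (fun i hi => ⟨hi, H.sq (P.mem i hi)⟩) (by
      simp only [TC.U4a.base, List.forall_mem_cons, TC.evl, one_mul, mul_assoc, q1, n m0 m1 P.n01,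
        n m0 m2 P.n02, c m0 m3 P.c03, c m0 m4 P.c04, n m1 m2 P.n12, n m1 m3 P.n13, c m1 m4 P.c14,
        c m2 m3 P.c23, n m2 m4 P.n24, c m3 m4 P.c34]
      simp)
    fun i hi h => subset_closure (by
      have : i = 0 ∨ i = 1 ∨ i = 2 := by revert i; decide
      rcases this with rfl | rfl | rfl <;> simp)).2
  have := h3.card_le H
  omega

end

def g4 : ℕ → Fin 4 → FF
  | 0 => ![1, 1, 0, 0]
  | 1 => ![0, 1, 1, 0]
  | 2 => ![1, 0, om, 0]
  | 3 => ![om + 1, om + 1, 1, 1]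
  | _ => ![1, 1, 1, 1]

def h4 (x y : Fin 4 → FF) : FF := x 0 * star (y 0) + x 1 * star (y 1) + x 2 * star (y 2) + x 3 * star (y 3)

theorem h4_eq (x y : Fin 4 → FF) : stdH FF 4 x y = h4 x y := by rw [stdH_apply, Fin.sum_univ_four, h4]

def ac4 : List ℕ → (Fin 4 → FF) → Fin 4 → FF
  | [], x => x
  | i :: w, x => ac4 w (x + h4 x (g4 i) • g4 i)

theorem g4_iso (i : ℕ) : stdH FF 4 (g4 i) (g4 i) = 0 ∧ g4 i ≠ 0 := by
  rw [h4_eq]
  match i with
  | 0 | 1 | 2 | 3 => decide +kernel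
  | _ + 4 => exact (by decide +kernel : h4 (g4 4) (g4 4) = 0 ∧ g4 4 ≠ 0)

def tb4 (x : Fin 4 → FF) : ℕ :=
  (0x40433200443043003342170000000018453143003224070043161400000000251441260042253300073324000000004500000007000000160000004426074400240733002614410033422500000000451733420032404300434430000000001814431600434531000732240000000025000000440000000700000016442607002407320016144300314345000000002525334200332407004126140000000045304344004217330043324000000000180000001600000044000000070744260000000010000000210000001211202200000000120000001000000021221120000000002100000012000000102022110000210200020021002102000000000000 >>> (8 * (cd4 (x 0) + 4 * cd4 (x 1) + 16 * cd4 (x 2) + 64 * cd4 (x 3)))) % 256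

theorem tb4_ok : ∀ a b c d : FF, (fun x : Fin 4 → FF => h4 x x = 0 → x = 0 ∨ tb4 x / 16 < 5 ∧
    ((∃ k : FF, x = k • g4 (tb4 x / 16)) ∨ tb4 (ac4 [tb4 x / 16] x) % 16 < tb4 x % 16)) ![a, b, c, d] := by
  decide +kernel

theorem closure_g4 : closure (TV (stdH FF 4)) ≤ closure ((fun i => tv (stdH FF 4) (g4 i)) '' {i | i < 5}) := by
  refine (closure_le _).2 ?_
  rintro _ ⟨x, hx, x0, rfl⟩
  induction hn : tb4 x % 16 using Nat.strong_induction_on generalizing x with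
  | _ n ih =>
    have := tb4_ok (x 0) (x 1) (x 2) (x 3)
    rw [show ![x 0, x 1, x 2, x 3] = x from funext fun i => by fin_cases i <;> rfl] at this
    obtain ⟨hi, ⟨k, hk⟩ | h⟩ := (this (h4_eq x x ▸ hx)).resolve_left x0
    · rw [(tv_eq_iff (nondeg_stdH 4) hx (g4_iso _).1 x0).2 ⟨k, hk⟩]
      exact subset_closure ⟨_, hi, rfl⟩
    · have hg := (g4_iso (tb4 x / 16)).1
      have m : tv _ (g4 (tb4 x / 16)) ∈ closure ((fun i => tv (stdH FF 4) (g4 i)) '' {i | i < 5}) :=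
        subset_closure ⟨_, hi, rfl⟩
      have := ih _ (hn ▸ h) (ac4 [tb4 x / 16] x) (by rw [ac4, ac4, ← h4_eq]; exact ff4.iso_star hg hx)
        (by rw [ac4, ac4, ← h4_eq, ← ff4.tv_apply hg]; exact UG.apply_ne_zero _ x0) rfl
      rw [ac4, ac4, ← h4_eq, ← ff4.tv_star hg hx] at this
      have e := mul_mem (mul_mem m this) m
      simpa [mul_assoc, sq_cancel (ff4.tv_sq hg), ff4.tv_sq hg] using e

def t4 (v x : Fin 4 → FF) : Fin 4 → FF := x + h4 x v • v

theorem five4 : tv (stdH FF 4) (g4 0) * tv _ (g4 3) * tv _ (g4 4) * tv _ ![0, 0, om, om] *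
    tv _ ![om, om, 1, 1] = 1 := by
  have k : ∀ v x : Fin 4 → FF, h4 v v = 0 → (tv (stdH FF 4) v).1.1 x = t4 v x := fun v x hv => by
    rw [ff4.tv_apply (h4_eq v v ▸ hv), h4_eq, t4]
  refine eg_ext fun x => ?_
  have := (by decide +kernel : ∀ a b c d : FF, (fun x : Fin 4 → FF => t4 (g4 0) (t4 (g4 3)
    (t4 (g4 4) (t4 ![0, 0, om, om] (t4 ![om, om, 1, 1] x)))) = x) ![a, b, c, d]) (x 0) (x 1) (x 2) (x 3)
  rw [show ![x 0, x 1, x 2, x 3] = x from funext fun i => by fin_cases i <;> rfl] at this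
  rw [eg_mul, eg_mul, eg_mul, eg_mul, k _ _ (by decide +kernel), k _ _ (by decide +kernel),
    k _ _ (by decide +kernel), k _ _ (by decide +kernel), k _ _ (by decide +kernel)]
  exact this

theorem card_EG4 : Nat.card (EG (stdH FF 4)) = 25920 := by
  have := frob4.card_su (n := 4) (by norm_num)
  rw [Nat.card_congr (frob4.suEquivEG (n := 4) (by norm_num)).toEquiv] at this
  simp [Finset.prod_range_succ, Nat.even_iff] at this
  omega

/-- the product of the five points of a totally isotropic line -/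
def W4 {X : Type*} [Group X] (v : ℕ → X) : X :=
  v 0 * v 3 * v 4 * cw v [1, 2, 3, 1, 4, 2, 0, 1] (v 0) * cw v [2, 0, 3, 1, 4, 2, 1] (v 1)

theorem W4_mem {X : Type*} [Group X] (v : ℕ → X) : W4 v ∈ closure (v '' {i | i < 5}) := by
  have m : ∀ i < 5, v i ∈ closure (v '' {i | i < 5}) := fun i hi => subset_closure ⟨i, hi, rfl⟩
  refine mul_mem (mul_mem (mul_mem (mul_mem (m 0 (by norm_num)) (m 3 (by norm_num))) (m 4 (by norm_num))) ?_) ?_ <;>
    exact cw_mem _ (fun i hi => m i (by revert i; decide)) (m _ (by norm_num))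

theorem W4_map {X Y : Type*} [Group X] [Group Y] (φ : X →* Y) (v : ℕ → X) :
    φ (W4 v) = W4 fun i => φ (v i) := by
  simp only [W4, cw, φ.map_mul]

theorem P4.two {G E : Type*} [Group G] [Finite G] [Group E] {D : Set G} {v : ℕ → G} (P : P4 D v)
    (H : T3 D) (f : G →* E) (hc : Nat.card E = 25920) (hK : (closure (v '' {i | i < 5})).map f = ⊤)
    (hw : f (W4 v) = 1) : ∀ k ∈ closure (v '' {i | i < 5}), f k = 1 → k = 1 ∨ k = W4 v := by
  intro k hkK hk1
  let u : ℕ → G × Multiplicative (ZMod 2) := fun i => (v i, Multiplicative.ofAdd 1)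
  have c : ∀ {x y : G × Multiplicative (ZMod 2)}, Commute x y ↔ Commute x.1 y.1 :=
    ⟨fun h => congrArg Prod.fst h, fun h => Prod.ext h (mul_comm _ _)⟩
  have P' : P4 ((fun d => (d, (Multiplicative.ofAdd 1 : Multiplicative (ZMod 2)))) '' D) u :=
    ⟨fun i hi => ⟨_, P.mem i hi, rfl⟩, c.not.2 P.n01, c.not.2 P.n02, c.2 P.c03, c.2 P.c04,
      c.not.2 P.n12, c.not.2 P.n13, c.2 P.c14, c.2 P.c23, c.not.2 P.n24, c.2 P.c34, c.not.2 P.r1⟩
  have hm : (closure (u '' {i | i < 5})).map (MonoidHom.fst _ _) = closure (v '' {i | i < 5}) := by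
    rw [MonoidHom.map_closure, Set.image_image]; rfl
  have e1 : (W4 u).1 = W4 v := W4_map (MonoidHom.fst _ _) u
  have e2 : (W4 u).2 = W4 fun _ => Multiplicative.ofAdd 1 := W4_map (MonoidHom.snd _ _) u
  obtain ⟨k', hk', rfl⟩ : k ∈ (closure (u '' {i | i < 5})).map (MonoidHom.fst _ _) := hm ▸ hkK
  have := ker_two ((f.comp (MonoidHom.fst _ _)).comp (closure (u '' {i | i < 5})).subtype)
    (by rw [← MonoidHom.range_eq_top, MonoidHom.range_comp, range_subtype, ← map_map, hm, hK])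
    (by rw [hc]; exact P'.card_le (t3_two H)) (w := ⟨W4 u, W4_mem u⟩) (k := ⟨k', hk'⟩)
    ((congrArg f e1).trans hw)
    (fun e => absurd (e2.symm.trans (congrArg (fun x => x.1.2) e)) (show W4 _ ≠ 1 by decide +kernel)) hk1
  exact this.imp (fun e => congrArg (fun x => x.1.1) e) fun e => (congrArg (fun x => x.1.1) e).trans e1

section
variable {G : Type*} [Group G] {D : Set G} {L : G → (Fin 4 → FF) → Prop} {v : ℕ → G}

theorem ULab.cw4 (U : ULab (stdH FF 4) D L) (hv : ∀ i, L (v i) (g4 i)) :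
    ∀ (w : List ℕ) {d : G} {x : Fin 4 → FF}, L d x → L (T2.cw v w d) (ac4 w x)
  | [], _, _, h => h
  | i :: w, _, _, h => by
    rw [ac4, ← h4_eq]
    exact ULab.cw4 U hv w (U.st h (hv i))

theorem ULab.p4 (U : ULab (stdH FF 4) D L) (hv : ∀ i, L (v i) (g4 i)) : P4 D v := by
  have k : ∀ i j w, Commute (v i) (T2.cw v w (v j)) ↔ h4 (g4 i) (ac4 w (g4 j)) = 0 := fun i j w => by
    rw [U.cm (hv i) (U.cw4 hv w (hv j)), h4_eq]
  refine ⟨fun i _ => U.mem (hv i), (k 0 1 []).not.2 ?_, (k 0 2 []).not.2 ?_, (k 0 3 []).2 ?_,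
    (k 0 4 []).2 ?_, (k 1 2 []).not.2 ?_, (k 1 3 []).not.2 ?_, (k 1 4 []).2 ?_, (k 2 3 []).2 ?_,
    (k 2 4 []).not.2 ?_, (k 3 4 []).2 ?_, (k 0 1 [2]).not.2 ?_⟩ <;> decide +kernel

theorem ULab.w4 (U : ULab (stdH FF 4) D L) (hv : ∀ i, L (v i) (g4 i)) :
    ∃ d1 d2, W4 v = v 0 * v 3 * v 4 * d1 * d2 ∧ L d1 ![0, 0, om, om] ∧ L d2 ![om, om, 1, 1] := by
  have l1 := U.cw4 hv [1, 2, 3, 1, 4, 2, 0, 1] (hv 0)
  have l2 := U.cw4 hv [2, 0, 3, 1, 4, 2, 1] (hv 1)
  rw [show ac4 [1, 2, 3, 1, 4, 2, 0, 1] (g4 0) = ![0, 0, om, om] by decide +kernel] at l1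
  rw [show ac4 [2, 0, 3, 1, 4, 2, 1] (g4 1) = ![om, om, 1, 1] by decide +kernel] at l2
  exact ⟨_, _, rfl, l1, l2⟩

end

theorem UF.clo {G V : Type*} [Group G] [AddCommGroup V] [Module FF V] {h : HForm FF V} {D : Set G}
    {L : G → V → Prop} {f : G →* EG h} (U : UF D L (MonoidHom.id _) f) (hD : closure D = ⊤)
    (hf : Function.Surjective f) {v : ℕ → G} {g : ℕ → V} (hv : ∀ i, L (v i) (g i))
    (hc : closure (TV h) ≤ closure ((fun i => tv h (g i)) '' {i | i < 5})) :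
    (closure (v '' {i | i < 5})).map f = ⊤ := by
  rw [eq_top_iff, ← map_top_of_surjective f hf, ← hD, MonoidHom.map_closure, MonoidHom.map_closure,
    Set.image_image, Set.image_congr fun i _ => U.lab (hv i)]
  refine (Subgroup.closure_mono ?_).trans hc
  rintro _ ⟨d, hd, rfl⟩
  obtain ⟨x, hx⟩ := U.ex hd
  exact ⟨x, U.iso hx, U.ne hx, U.lab hx⟩

theorem UF.two4 {G : Type*} [Group G] [Finite G] {D : Set G} {L : G → (Fin 4 → FF) → Prop}
    {f : G →* EG (stdH FF 4)} (U : UF D L (MonoidHom.id _) f) (hD : IsThreeTranspositionClass D)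
    (hf : Function.Surjective f) : ∃ (K : Subgroup G) (a w : G), K.map f = ⊤ ∧ a ∈ D ∧ a ∈ K ∧ w ∈ K ∧
      f w = 1 ∧ (∀ k ∈ K, f k = 1 → k = 1 ∨ k = w) ∧ ∃ l : List G, l.prod = w ∧ ∀ d ∈ l, d ∈ D ∧ Commute d a := by
  choose v hv using fun i => U.surj (g4_iso i).1 (g4_iso i).2
  have hK := U.clo hD.2.2 hf hv closure_g4
  obtain ⟨d1, d2, hW, l1, l2⟩ := U.w4 hv
  have hw : f (W4 v) = 1 := by
    simp only [hW, map_mul, U.lab (hv 0), U.lab (hv 3), U.lab (hv 4), U.lab l1, U.lab l2]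
    exact five4
  have k : ∀ {d x}, L d x → h4 x (g4 0) = 0 → d ∈ D ∧ Commute d (v 0) := fun l e =>
    ⟨U.mem l, (U.cm l (hv 0)).2 (h4_eq _ _ ▸ e)⟩
  refine ⟨_, v 0, _, hK, U.mem (hv 0), subset_closure ⟨0, by norm_num, rfl⟩, W4_mem v, hw,
    (U.p4 hv).two hD.t3 f card_EG4 hK hw, [v 0, v 3, v 4, d1, d2], by simp [hW, mul_assoc], ?_⟩
  simp only [List.forall_mem_cons]
  exact ⟨k (hv 0) (by decide +kernel), k (hv 3) (by decide +kernel), k (hv 4) (by decide +kernel),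
    k l1 (by decide +kernel), k l2 (by decide +kernel), by simp⟩

theorem UF.two5 {G : Type*} [Group G] [Finite G] {D : Set G} {L : G → (Fin 5 → FF) → Prop}
    {f : G →* EG (stdH FF 5)} (U : UF D L (MonoidHom.id _) f) (hD : IsThreeTranspositionClass D)
    (hf : Function.Surjective f) : ∃ (K : Subgroup G) (a w : G), K.map f = ⊤ ∧ a ∈ D ∧ a ∈ K ∧
      ∀ k ∈ K, f k = 1 → k = 1 ∨ k = w := by
  choose v hv using fun i => U.surj (g5_iso i).1 (g5_iso i).2
  have hK := U.clo hD.2.2 hf hv (closure_g5.ge.trans (sup_bot_eq _).le)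
  obtain ⟨d1, d2, d3, d4, hW, l1, l2, l3, l4⟩ := U.w5 hv
  have hw : f (W5 v) = 1 := by
    simp only [hW, map_mul, U.lab (hv 1), U.lab l1, U.lab l2, U.lab l3, U.lab l4]
    exact five_one
  exact ⟨_, v 0, _, hK, U.mem (hv 0), subset_closure ⟨0, by norm_num, rfl⟩,
    (U.p5 hv).two hD.t3 f card_EG5 hK hw⟩

end Cfsg.Agent.T2
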